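import Cfsg.Agent.H619.BD.KData
import Cfsg.Agent.H345.K4.Co1
import Cfsg.Agent.H345.K4.Co2

/-!
# `Co1`, `Co2` (S4932, helper619)

`Co2` : the rational characters of the degrees `23` and `2277 = 3^2 · 11 · 23`; `Co1` : `299 = 13 · 23` and a
character in the principal `2`-block of odd degree divisible by `1771 = 7 · 11 · 23` (helper345).
-/

set_option autoImplicit false

namespace Cfsg.Agent.H619.BD

universe u

section co2

open Cfsg Cfsg.Agent.H345.K4.Co2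

theorem kd_co2 {S : Type u} [Group S] (h : Spor.IsoCo2 S) : KD 2 S := by
  classical
  obtain ⟨e⟩ := h
  have hfin : Finite Spor.Co2 := Finite.of_equiv _ (MulEquiv.refl Spor.Co2).toEquiv
  have := Fintype.ofFinite Spor.Co2
  obtain ⟨μ, hμ⟩ := Cfsg.Agent.H843.IMC.Co2A.exists_mu
  have hμd : charDegree (μ : Spor.Co2 → ℂ) = 23 := Cfsg.Agent.H769.PB.RowCoTwo.deg_mu hμ
  obtain ⟨β, hβ, rβ⟩ := exists_2277
  have b1 : B0D 2 Spor.Co2 23 := B0D.of_rat μ.2 (mu_rat hμ)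
    (by rw [Cfsg.Agent.Blocks.Basic.irr_one_eq_charDegree μ.2, hμd]) (by decide)
  have b2 : B0D 2 Spor.Co2 2277 := B0D.of_rat β.2 rβ
    (by rw [Cfsg.Agent.Blocks.Basic.irr_one_eq_charDegree β.2, hβ]) (by decide)
  exact KD.congr e.symm (KD.common 23 b1 b2 (by norm_num) (by norm_num) (by norm_num) (by norm_num) (by norm_num)
    (by norm_num) (by norm_num) (by norm_num) (by norm_num))

end co2

section co1

open Cfsg Cfsg.Agent.Characters.Core Cfsg.Agent.H618.Sigma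
open Cfsg.Agent.H843.IMC Cfsg.Agent.H843.IMC.LamCo1 Cfsg.Agent.H843.IMC.LamAll Cfsg.Agent.H843.IMC.Syn
open Cfsg.Agent.SporadicA.GolayBase Cfsg.Agent.CoOneType.ClosingFacts Cfsg.Agent.H419.LeechIrr
open Cfsg.Agent.H419.Spor.Co1 (chi)
open Cfsg.Agent.H345.K4.Count13 Cfsg.Agent.H345.K4.Co1 Cfsg.Agent.H345.K4

theorem exists_w : ∃ χ : IrrCharacter Spor.Co1, H601.K4.Good (χ : Spor.Co1 → ℂ) ∧
    1771 ∣ charDegree (χ : Spor.Co1 → ℂ) := by
  classical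
  have hc : Nat.card Spor.Co1 = 4157776806543360000 := NotCT.Orders.co1 ⟨MulEquiv.refl _⟩
  have hfin : Finite Spor.Co1 := Nat.finite_of_card_ne_zero (by rw [hc]; norm_num)
  have := Fintype.ofFinite Spor.Co1
  obtain ⟨k, hk⟩ := H740.K4.exists_cube Spor.Co1
  obtain ⟨a, b1, b2, b3, ha, ⟨s1, s2, s3⟩, ⟨n1, n2, n3⟩, e12, e21, ⟨n12, n13, n23⟩, ⟨c1, c2, c3⟩, ⟨k2, k3⟩, hT,
    -, ⟨t11, t12, t13, t14⟩, ⟨t21, t22, t23, t24⟩, ⟨t31, t32, t33, t34⟩⟩ := H935.K4.Co1Thirteen.thirteen_data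
  have D : Data (mk a) (mk b1) (mk b2) (mk b3) :=
    ⟨ha, s1, s2, s3, e12, e21, n12, n1, n2, c1, c2, k2, k3, hT⟩
  obtain ⟨-, n, hn⟩ := H311.OdmRowCo1.norm_data (MulEquiv.refl Spor.Co1) (z := mk a) ha
  have hval : ∀ b : Co0, mk b * mk a = mk a * mk b → chi (a * b) = 0 → chi ((a * b) ^ 2) = 2 →
      chi ((a * b) ^ 3) = 0 → chi ((a * b) ^ 4) = -2 → W 4 (mk b * mk a) = 1 := by
    intro b hb h1 h2 h3 h4
    rw [hb]
    have h5 : mk a * mk b = mk (a * b) := rfl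
    rw [h5, W_four, h1, h2, h3, h4]
    norm_num
  obtain ⟨χ₀, χ₁, g0, g1, hne, d0, d1⟩ := Good13.two_good hk D hn (isCharacter_W (by decide)) W_rat W_one'
    (hval b1 c1 t11 t12 t13 t14) (hval b2 c2 t21 t22 t23 t24) (hval b3 c3 t31 t32 t33 t34) dvd_deg
  exact ⟨χ₀, H740.K4.good_of hk χ₀.2 g0, d0⟩

theorem kd_co1 {S : Type u} [Group S] (h : Spor.IsoCo1 S) : KD 2 S := by
  classical
  obtain ⟨e⟩ := h
  have hc : Nat.card Spor.Co1 = 4157776806543360000 := NotCT.Orders.co1 ⟨MulEquiv.refl _⟩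
  have hfin : Finite Spor.Co1 := Nat.finite_of_card_ne_zero (by rw [hc]; norm_num)
  have := Fintype.ofFinite Spor.Co1
  obtain ⟨ξ, hξ, hξv⟩ := Co1B.exists_299
  obtain ⟨χ, g0, d0⟩ := exists_w
  have b1 : B0D 2 Spor.Co1 299 := B0D.of_rat ξ.2 (xi_rat hξv)
    (by rw [Cfsg.Agent.Blocks.Basic.irr_one_eq_charDegree ξ.2, hξ]) (by decide)
  have b2 : B0D 2 Spor.Co1 (charDegree (χ : Spor.Co1 → ℂ)) := ⟨χ, fun M hM => g0.b0 M hM χ.2, rfl⟩
  have hpos : 0 < charDegree (χ : Spor.Co1 → ℂ) := Cfsg.Agent.Blocks.Basic.charDegree_pos χ.2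
  have hle : 1771 ≤ charDegree (χ : Spor.Co1 → ℂ) := Nat.le_of_dvd hpos d0
  exact KD.congr e.symm (KD.common 23 b1 b2 (by norm_num) (by omega) (by norm_num) (by norm_num) (by norm_num)
    ((by norm_num : 23 ∣ 1771).trans d0) (by omega) (by omega) (by omega))

end co1

end Cfsg.Agent.H619.BD
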