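import Cfsg.Agent.H619.BD.KData
import Cfsg.Agent.H589.BD.Kill

/-!
# From the data `KD p S` to `Kill p S` (S4932, helper619)
-/

set_option autoImplicit false

open Cfsg

namespace Cfsg.Agent.H619.BD

open Cfsg.Agent.H589.BD Cfsg.Agent.H686.CharKit Cfsg.Agent.H684.BlockTools

universe u

theorem nt_of_degree {S : Type u} [Group S] {χ : IrrCharacter S} (h : 1 < charDegree (χ : S → ℂ)) : NT χ := by
  apply nt_of_ne_triv
  rintro rfl
  have h1 : charDegree ((triv S : IrrCharacter S) : S → ℂ) = 1 := (charDegree_eq_one_iff _).2 rfl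
  omega

theorem not_rel {o a b : ℕ} (ho : o ∣ 2) (h3 : a ≠ b) (h4 : a ≠ 2 * b) (h5 : b ≠ 2 * a) :
    ¬ Rel o a b := by
  rintro ⟨d, d', hd, hd', h⟩
  have h1 : d = 1 ∨ d = 2 := (Nat.dvd_prime Nat.prime_two).1 (hd.trans ho)
  have h2 : d' = 1 ∨ d' = 2 := (Nat.dvd_prime Nat.prime_two).1 (hd'.trans ho)
  rcases h1 with rfl | rfl <;> rcases h2 with rfl | rfl <;> omega

variable {p : ℕ} [Fact p.Prime] {S : Type u} [Group S] [Finite S] [IsSimpleGroup S]

/-- **`kill_common` for `|Out S| ≤ 2`.** -/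
theorem kill_of_pair (hna : ¬ IsMulCommutative S) (hS : SizeOK S) (hp : p ∣ Nat.card S) (ho : Nat.card (Out S) ∣ 2)
    {a b g : ℕ} (ha : B0D p S a) (hb : B0D p S b) (h1 : 1 < a) (h2 : 1 < b) (hg : Nat.card (Out S) < g) (ga : g ∣ a)
    (gb : g ∣ b) (h3 : a ≠ b) (h4 : a ≠ 2 * b) (h5 : b ≠ 2 * a) : Kill p S := by
  obtain ⟨α, hα, rfl⟩ := ha
  obtain ⟨β, hβ, rfl⟩ := hb
  exact kill_common hna hS hp α β hα hβ (nt_of_degree h1) (nt_of_degree h2) hg ga gb (not_rel ho h3 h4 h5)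

/-- **From the data to `Kill`.** -/
theorem KD.kill (h : KD p S) (hna : ¬ IsMulCommutative S) (hS : SizeOK S) (hp : p ∣ Nat.card S)
    (ho : Nat.card (Out S) ∣ 2) (h2 : p = 2 ∨ Nat.card (Out S) = 1) : Kill p S := by
  have hlt : ∀ {r : ℕ}, r.Prime → r ≠ p → Nat.card (Out S) < r := by
    intro r hr hrp
    rcases h2 with h2 | h2
    · have h3 := Nat.le_of_dvd two_pos ho
      have h4 := hr.two_le
      have h5 : r ≠ 2 := fun h => hrp (h.trans h2.symm)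
      omega
    · rw [h2]
      exact hr.one_lt
  rcases h with ⟨a, b, r, ha, hb, h1, h1', hr, hrp, ra, rb, h3, h4, h5⟩ | ⟨a, r, ha, h1, hr, hrp, hr2, hd, u, hu⟩
  · exact kill_of_pair hna hS hp ho ha hb h1 h1' (hlt hr hrp) ra rb h3 h4 h5
  · obtain ⟨α, hα, rfl⟩ := ha
    exact kill_zero hna hS α hα (nt_of_degree h1) hr hrp (hlt hr hrp) hd u hu

end Cfsg.Agent.H619.BD
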