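import Cfsg.Agent.H619.BD.PermBlock
import Cfsg.Agent.H619.R4.RankTab
import Cfsg.Agent.Blocks.PrincipalSection

/-!
# Constituents of a permutation character in the principal block (S4932, helper619)

If no proper subset (with the trivial character) of the constituents has degree divisible by the `p`-part of `|X|`, all
constituents are in the principal `p`-block.
-/

set_option autoImplicit false

universe u v

namespace Cfsg.Agent.H619.BD

open Cfsg Cfsg.Agent.Characters Cfsg.Agent.Characters.Core Cfsg.Agent.Blocks Cfsg.Agent.Blocks.LocalRing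
open Cfsg.Agent.H690.Spor Cfsg.Agent.H619.R4
open scoped ComplexConjugate

variable {p : ℕ} {M : Ideal AlgInt} {G : Type u} [Group G] [Finite G]

/-- **All constituents in the principal block.** -/
theorem all_mem_principal (hM : IsPModular p M) {X : Type v} [MulAction G X] [Finite X] (x₀ : X)
    (htr : ∀ x : X, ∃ g : G, g • x₀ = x) {n : ℕ} (χ : Fin (n + 1) → IrrCharacter G)
    (h0 : (χ 0 : G → ℂ) = fun _ => 1)
    (hπ : ∀ g : G, (Nat.card (MulAction.fixedBy X g) : ℂ) = ∑ i, (χ i : G → ℂ) g) {d : Fin (n + 1) → ℕ}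
    (hd : ∀ i, (χ i : G → ℂ) 1 = d i) {e : ℕ} (he : p ^ e ∣ ∑ i, d i)
    (hT : ∀ T : Finset (Fin (n + 1)), 0 ∈ T → (∑ i ∈ T, d i) % p ^ e = 0 → T = Finset.univ) (i : Fin (n + 1)) :
    χ i ∈ principalBlock M G := by
  classical
  have hp : p.Prime := prime hM
  have := isPrime hM
  have : Nonempty X := ⟨x₀⟩
  have hcard : Nat.card X = ∑ i, d i := by
    have h1 := hπ 1
    rw [MulAction.fixedBy_one_eq_univ] at h1
    have h2 : Nat.card (Set.univ : Set X) = Nat.card X := Nat.card_univ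
    rw [h2] at h1
    simp only [hd] at h1
    exact_mod_cast h1
  have h1 := perm_block_dvd hM (PrincipalSection.isPBlock_principalBlock (K := G) (M := M)) x₀ htr χ hπ
  have h2 : p ^ e ∣ p ^ (Nat.card X).factorization p := by
    refine pow_dvd_pow p ?_
    rw [← hp.pow_dvd_iff_le_factorization Nat.card_pos.ne', hcard]
    exact he
  have h3 : ∑ i with χ i ∈ principalBlock M G, charDegree (χ i : G → ℂ) =
      ∑ i with χ i ∈ principalBlock M G, d i :=
    Finset.sum_congr rfl fun i _ => Blocks.Basic.charDegree_of_eq (hd i)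
  rw [h3] at h1
  have h4 := hT (Finset.univ.filter fun i => χ i ∈ principalBlock M G) (by
    rw [Finset.mem_filter]
    refine ⟨Finset.mem_univ _, ?_⟩
    have h5 : χ 0 = ⟨fun _ => 1, isIrr_one⟩ := Subtype.ext h0
    rw [h5]
    exact PrincipalSection.one_mem_principalBlock) (Nat.mod_eq_zero_of_dvd (h2.trans h1))
  have h5 : i ∈ Finset.univ.filter fun i => χ i ∈ principalBlock M G := by rw [h4]; exact Finset.mem_univ i
  exact (Finset.mem_filter.1 h5).2

/-- The decomposition of a permutation character of rank 3 (the proof of `real_pair`). -/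
theorem pair_decomp {X : Type v} [MulAction G X] {R : X → X → Prop} {k l : ℕ}
    (h : RankThree.R3 G X R k l) (hodd : Odd (k + l) ∨ ¬ (k + l) / 2 ∣ Nat.card G) {a b d : ℕ} (hab : a + b = k + l)
    (hlt : a < b) (hd : k + l < 2 ^ d) (hc : rng (cand k l a) d 0 = true) :
    ∃ χ₁ χ₂ : IrrCharacter G, (χ₁ : G → ℂ) 1 = a ∧ (χ₂ : G → ℂ) 1 = b ∧
      (∀ g, conj ((χ₁ : G → ℂ) g) = (χ₁ : G → ℂ) g) ∧ (∀ g, conj ((χ₂ : G → ℂ) g) = (χ₂ : G → ℂ) g) ∧
      ∀ x : G, (Nat.card (MulAction.fixedBy X x) : ℂ) = 1 + (χ₁ : G → ℂ) x + (χ₂ : G → ℂ) x := by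
  classical
  have hn := h.cardn
  have hfin : Finite X := by
    by_contra hcon
    rw [not_finite_iff_infinite] at hcon
    rw [Nat.card_eq_zero_of_infinite] at hn
    omega
  have := Fintype.ofFinite X
  obtain ⟨χ₁, χ₂, f, g, D, hf, hg, hπ, hfg, hprod, hsq⟩ := h.frame'
  have hprod0 : (1 + k + l) * k * l ≠ 0 := by
    have := h.k0
    have := h.l0
    positivity
  have hne : f ≠ g := by
    rintro rfl
    rcases hodd with h1 | h1
    · rw [← hfg] at h1
      exact (Nat.not_odd_iff_even.2 ⟨f, rfl⟩) h1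
    · apply h1
      have h2 : (k + l) / 2 = f := by omega
      have h3 : charDegree (χ₁ : G → ℂ) = f := Cfsg.Agent.Blocks.Basic.charDegree_of_eq hf
      rw [h2, ← h3]
      exact Cfsg.Agent.Blocks.Knorr.charDegree_dvd χ₁.2
  have hf0 : f ≠ 0 := by
    rintro rfl
    rw [zero_mul, zero_mul] at hprod
    exact hprod0 hprod.symm
  have hg0 : g ≠ 0 := by
    rintro rfl
    rw [mul_zero, zero_mul] at hprod
    exact hprod0 hprod.symm
  have hsum : ∀ x, conj ((χ₁ : G → ℂ) x + (χ₂ : G → ℂ) x) = (χ₁ : G → ℂ) x + (χ₂ : G → ℂ) x := by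
    intro x
    have h1 : (χ₁ : G → ℂ) x + (χ₂ : G → ℂ) x = (Nat.card (MulAction.fixedBy X x) : ℂ) - 1 := by
      rw [hπ x]
      ring
    rw [h1, map_sub, map_one, Complex.conj_natCast]
  have hne1 : (χ₁ : G → ℂ) 1 ≠ (χ₂ : G → ℂ) 1 := by
    rw [hf, hg]
    exact_mod_cast hne
  have r1 := real_of_sum hne1 hsum
  have r2 := real_of_sum hne1.symm (fun x => by rw [add_comm]; exact hsum x)
  rcases le_total f g with hle | hle
  · have e : f = a := cand_spec (rng_spec hc f (Nat.zero_le _) (by omega)) hfg hle hf0 hprod (by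
      obtain ⟨β, c, h1, h2⟩ := hsq hne
      exact ⟨β, c, h1, Or.inl h2⟩)
    have e' : g = b := by omega
    subst e e'
    exact ⟨χ₁, χ₂, hf, hg, r1, r2, hπ⟩
  · have e : g = a := cand_spec (rng_spec hc g (Nat.zero_le _) (by omega)) (by omega) hle hg0
      (by rw [mul_comm g f]; exact hprod) (by
      obtain ⟨β, c, h1, h2⟩ := hsq hne
      exact ⟨β, c, h1, Or.inr h2⟩)
    have e' : f = b := by omega
    subst e e'
    exact ⟨χ₂, χ₁, hg, hf, r2, r1, fun x => by rw [hπ x]; ring⟩

/-- **Rank 3: both constituents are in the principal block.** -/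
theorem pair_mem_principal (hM : IsPModular p M) {X : Type v} [MulAction G X] {R : X → X → Prop} {k l : ℕ}
    (h : RankThree.R3 G X R k l) (hodd : Odd (k + l) ∨ ¬ (k + l) / 2 ∣ Nat.card G) {a b d : ℕ} (hab : a + b = k + l)
    (hlt : a < b) (hd : k + l < 2 ^ d) (hc : rng (cand k l a) d 0 = true) {e : ℕ} (he : p ^ e ∣ 1 + k + l)
    (h1 : 1 % p ^ e ≠ 0) (h2 : (1 + a) % p ^ e ≠ 0) (h3 : (1 + b) % p ^ e ≠ 0) :
    (∃ χ : IrrCharacter G, χ ∈ principalBlock M G ∧ (∀ g, conj ((χ : G → ℂ) g) = (χ : G → ℂ) g) ∧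
      charDegree (χ : G → ℂ) = a) ∧
    (∃ χ : IrrCharacter G, χ ∈ principalBlock M G ∧ (∀ g, conj ((χ : G → ℂ) g) = (χ : G → ℂ) g) ∧
      charDegree (χ : G → ℂ) = b) := by
  classical
  obtain ⟨χ₁, χ₂, e1, e2, r1, r2, hπ⟩ := pair_decomp h hodd hab hlt hd hc
  have hn := h.cardn
  have hfin : Finite X := by
    by_contra hcon
    rw [not_finite_iff_infinite] at hcon
    rw [Nat.card_eq_zero_of_infinite] at hn
    omega
  have hne : Nonempty X := by
    by_contra hcon
    rw [not_nonempty_iff] at hcon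
    rw [Nat.card_of_isEmpty] at hn
    omega
  obtain ⟨x₀⟩ := hne
  have htr : ∀ x : X, ∃ g : G, g • x₀ = x := fun x => h.trans.exists_smul_eq x₀ x
  let χ : Fin 3 → IrrCharacter G := ![⟨fun _ => 1, isIrr_one⟩, χ₁, χ₂]
  let dg : Fin 3 → ℕ := ![1, a, b]
  have key := all_mem_principal (e := e) hM x₀ htr χ rfl (fun g => by
    rw [hπ g, Fin.sum_univ_three]
    rfl) (d := dg) (fun i => by
      fin_cases i
      · simp [χ, dg]
      · exact e1
      · exact e2) (by
      rw [Fin.sum_univ_three]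
      show p ^ e ∣ 1 + a + b
      have : 1 + a + b = 1 + k + l := by omega
      rw [this]
      exact he) (by
      intro T h0 hT
      have h4 : ∑ i ∈ T, dg i = 1 + (if (1 : Fin 3) ∈ T then a else 0) + if (2 : Fin 3) ∈ T then b else 0 := by
        have h5 : ∑ i ∈ T, dg i = ∑ i : Fin 3, if i ∈ T then dg i else 0 := by
          rw [Finset.sum_ite_mem, Finset.univ_inter]
        rw [h5, Fin.sum_univ_three, if_pos h0]
        rfl
      rw [h4] at hT
      by_cases h5 : (1 : Fin 3) ∈ T <;> by_cases h6 : (2 : Fin 3) ∈ T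
      · rw [Finset.eq_univ_iff_forall]
        intro i
        fin_cases i
        · exact h0
        · exact h5
        · exact h6
      · rw [if_pos h5, if_neg h6, add_zero] at hT
        exact absurd hT h2
      · rw [if_neg h5, if_pos h6, add_zero] at hT
        exact absurd hT h3
      · rw [if_neg h5, if_neg h6] at hT
        exact absurd hT h1)
  exact ⟨⟨χ₁, key 1, r1, Blocks.Basic.charDegree_of_eq e1⟩, ⟨χ₂, key 2, r2, Blocks.Basic.charDegree_of_eq e2⟩⟩

end Cfsg.Agent.H619.BD
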