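import Cfsg.Agent.H816.IMEig
import Cfsg.Agent.H619.BD.RankB0
import Cfsg.Agent.S0157

/-!
# The decomposition of a multiplicity free permutation character (S4932, helper619)

For a symmetric association scheme (`H816.IMEig.Col`) the spherical functions give all constituents of the
permutation character; with `all_mem_principal` all of them are in the principal `p`-block when no proper subset
has degree divisible by the `p`-part of `|X|`.
-/

set_option autoImplicit false
set_option linter.unusedSectionVars false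

universe u v

namespace Cfsg.Agent.H619.BD

open Cfsg Cfsg.Agent.Characters Cfsg.Agent.Characters.Core Module
open Cfsg.Agent.Blocks Cfsg.Agent.Blocks.LocalRing
open Cfsg.Agent.H816.IMEig Cfsg.Agent.H816.IMEig.Col
open scoped ComplexConjugate

variable {G : Type u} [Group G]

/-- **A character is the sum of distinct constituents with the right degree.** -/
theorem eq_sum_of_constituents [Finite G] {π : G → ℂ} (hπ : IsCharacter G π) {n : ℕ} (χ : Fin n → IrrCharacter G)
    (hc : ∀ i, ∃ c, IsCharacter G c ∧ π = (χ i : G → ℂ) + c) (hinj : Function.Injective χ)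
    (h1 : π 1 = ∑ i, (χ i : G → ℂ) 1) (g : G) : π g = ∑ i, (χ i : G → ℂ) g := by
  classical
  have := Fintype.ofFinite G
  have := finite_irr (G := G)
  have := Fintype.ofFinite (IrrCharacter G)
  obtain ⟨m, hm⟩ := exists_nat_comb hπ
  -- the multiplicities are positive
  have hpos : ∀ i, 1 ≤ m (χ i) := by
    intro i
    obtain ⟨c, hcc, hci⟩ := hc i
    obtain ⟨k, hk⟩ := exists_nat_comb hcc
    have h2 : classInner π (χ i : G → ℂ) = 1 + (k (χ i) : ℂ) := by
      rw [hci, classInner_add_left, classInner_irr_self (χ i).2, hk, classInner_sum_nsmul_irr]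
    rw [hm, classInner_sum_nsmul_irr] at h2
    have h3 : m (χ i) = 1 + k (χ i) := by exact_mod_cast h2
    omega
  let d : IrrCharacter G → ℕ := fun ψ => charDegree (ψ : G → ℂ)
  have hd : ∀ ψ : IrrCharacter G, (ψ : G → ℂ) 1 = d ψ := by
    intro ψ
    obtain ⟨n, hn, h⟩ := isIrr_apply_one ψ.2
    show (ψ : G → ℂ) 1 = ((charDegree (ψ : G → ℂ) : ℕ) : ℂ)
    rw [Blocks.Basic.charDegree_of_eq h, h]
  have hdpos : ∀ ψ : IrrCharacter G, 0 < d ψ := by
    intro ψ
    obtain ⟨n, hn, h⟩ := isIrr_apply_one ψ.2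
    show 0 < charDegree (ψ : G → ℂ)
    rw [Blocks.Basic.charDegree_of_eq h]
    exact hn
  let e : IrrCharacter G → ℕ := fun ψ => if ψ ∈ Finset.univ.image χ then 1 else 0
  have hle : ∀ ψ, e ψ ≤ m ψ := by
    intro ψ
    by_cases hψ : ψ ∈ Finset.univ.image χ
    · obtain ⟨i, -, rfl⟩ := Finset.mem_image.1 hψ
      show (if χ i ∈ Finset.univ.image χ then 1 else 0) ≤ m (χ i)
      rw [if_pos hψ]
      exact hpos i
    · show (if ψ ∈ Finset.univ.image χ then 1 else 0) ≤ m ψ
      rw [if_neg hψ]
      exact Nat.zero_le _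
  have hsum : ∀ f : IrrCharacter G → ℂ, ∑ i, f (χ i) = ∑ ψ, (e ψ : ℂ) * f ψ := by
    intro f
    have h3 : ∑ ψ, (e ψ : ℂ) * f ψ = ∑ ψ ∈ Finset.univ.image χ, f ψ := by
      have h4 : ∀ ψ, (e ψ : ℂ) * f ψ = if ψ ∈ Finset.univ.image χ then f ψ else 0 := by
        intro ψ
        show ((if ψ ∈ Finset.univ.image χ then 1 else 0 : ℕ) : ℂ) * f ψ = _
        split_ifs <;> simp
      rw [Finset.sum_congr rfl fun ψ _ => h4 ψ, Finset.sum_ite_mem, Finset.univ_inter]
    rw [h3, Finset.sum_image fun a _ b _ hab => hinj hab]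
  have hdeg : ∑ ψ, m ψ * d ψ = ∑ ψ, e ψ * d ψ := by
    have h4 : π 1 = ∑ ψ, (m ψ : ℂ) * (d ψ : ℂ) := by
      rw [hm, Finset.sum_apply]
      refine Finset.sum_congr rfl fun ψ _ => ?_
      rw [Pi.smul_apply, nsmul_eq_mul, hd]
    have h5 : ∑ i, (χ i : G → ℂ) 1 = ∑ ψ, (e ψ : ℂ) * (d ψ : ℂ) := by
      rw [hsum fun ψ => (ψ : G → ℂ) 1]
      exact Finset.sum_congr rfl fun ψ _ => by rw [hd]
    rw [h4, h5] at h1
    exact_mod_cast h1
  have heq : ∀ ψ, e ψ = m ψ := by
    have h6 := (Finset.sum_eq_sum_iff_of_le (s := Finset.univ) (f := fun ψ => e ψ * d ψ) (g := fun ψ => m ψ * d ψ)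
      fun ψ _ => Nat.mul_le_mul_right _ (hle ψ)).1 hdeg.symm
    intro ψ
    exact Nat.eq_of_mul_eq_mul_right (hdpos ψ) (h6 ψ (Finset.mem_univ ψ))
  rw [hsum fun ψ => (ψ : G → ℂ) g, hm, Finset.sum_apply]
  refine Finset.sum_congr rfl fun ψ _ => ?_
  rw [Pi.smul_apply, nsmul_eq_mul, heq ψ]

section scheme

variable {X : Type v} [MulAction G X] {ι : Type} [Fintype ι] [DecidableEq ι] {c : X → X → ι} {o : ι}

/-- The character of the permutation representation. -/
theorem prep_character [Fintype X] [DecidableEq X] (g : G) :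
    (prep G X).character g = (Nat.card (MulAction.fixedBy X g) : ℂ) := by
  show LinearMap.trace ℂ (X → ℂ) (prep G X g) = _
  rw [LinearMap.trace_eq_matrix_trace ℂ (Pi.basisFun ℂ X), Matrix.trace]
  have h2 : ∀ x, (LinearMap.toMatrix (Pi.basisFun ℂ X) (Pi.basisFun ℂ X) (prep G X g)).diag x =
      if g • x = x then 1 else 0 := by
    intro x
    rw [Matrix.diag_apply, LinearMap.toMatrix_apply, Pi.basisFun_apply, Pi.basisFun_repr, prep_apply]
    by_cases hx : g • x = x
    · have hx' : g⁻¹ • x = x := by rw [inv_smul_eq_iff, hx]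
      rw [if_pos hx, hx', Pi.single_eq_same]
    · have hx' : g⁻¹ • x ≠ x := fun h => hx (by rw [inv_smul_eq_iff] at h; exact h.symm)
      rw [if_neg hx, Pi.single_eq_of_ne hx']
  simp only [h2]
  rw [Finset.sum_boole, Nat.card_eq_fintype_card, Fintype.card_subtype]
  rfl

/-- **The constituent belonging to a spherical function.** -/
theorem exists_constituent [Finite G] [Finite X] (h : Col G X ι c o) {x₀ z₀ : X} {t : ι → ι → ℕ} {θ : ℂ}
    {ω : ι → ℂ} (ht : ∀ u w, Nat.card {y // c x₀ y = u ∧ c z₀ y = w} = t u w) (hE : Eig (c x₀ z₀) o t θ ω)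
    {f : ℕ} (hf : (f : ℂ) * ∑ u, ((∑ w, t u w : ℕ) : ℂ) * ω u ^ 2 = (Nat.card X : ℂ)) :
    ∃ χ : IrrCharacter G, (χ : G → ℂ) 1 = f ∧ ∃ c' : G → ℂ, IsCharacter G c' ∧
      (fun g : G => (Nat.card (MulAction.fixedBy X g) : ℂ)) = (χ : G → ℂ) + c' := by
  classical
  have := Fintype.ofFinite X
  have hX : (Nat.card X : ℂ) ≠ 0 := by
    have : Nonempty X := ⟨x₀⟩
    exact_mod_cast (Nat.card_pos (α := X)).ne'
  have hS : SS t ω ≠ 0 := by
    intro h0
    unfold SS at h0
    rw [h0, mul_zero] at hf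
    exact hX hf.symm
  obtain ⟨U', hU'⟩ := exists_isCompl_sub (h.sub ω)
  refine ⟨⟨_, isIrrCharacter_of_rep _ (h.irr ht hE)⟩, ?_, U'.toRepresentation.character, isCharacter_of_rep _, ?_⟩
  · show (h.sub ω).toRepresentation.character 1 = f
    rw [Representation.char_one]
    have h1 := h.finrank_mul ht hE hS
    rw [← Nat.card_eq_fintype_card, ← hf] at h1
    exact mul_right_cancel₀ hS h1
  · have h3 := character_eq_add_of_isCompl (h.sub ω) U' hU'
    rw [← h3]
    funext g
    exact (prep_character g).symm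

end scheme

/-- **All constituents of a multiplicity free permutation character in the principal block**, from the list of
degrees; `d 0 = 1` belongs to the trivial character. -/
theorem all_degrees {p : ℕ} [Finite G] {X : Type v} [MulAction G X] [Finite X] (x₀ : X) (htr : ∀ x : X, ∃ g : G, g • x₀ = x) {n : ℕ} {d : Fin (n + 1) → ℕ} (hd0 : d 0 = 1)
    (hd : ∀ i, ∃ χ : IrrCharacter G, (χ : G → ℂ) 1 = d i ∧ ∃ c' : G → ℂ, IsCharacter G c' ∧
      (fun g : G => (Nat.card (MulAction.fixedBy X g) : ℂ)) = (χ : G → ℂ) + c')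
    (hinj : Function.Injective d) (hs : ∑ i, d i = Nat.card X) {e : ℕ} (he : p ^ e ∣ ∑ i, d i)
    (hT : ∀ T : Finset (Fin (n + 1)), 0 ∈ T → (∑ i ∈ T, d i) % p ^ e = 0 → T = Finset.univ) (i : Fin (n + 1)) :
    ∃ χ : IrrCharacter G, (∀ M : Ideal AlgInt, IsPModular p M → χ ∈ principalBlock M G) ∧
      charDegree (χ : G → ℂ) = d i ∧ ∀ g, conj ((χ : G → ℂ) g) = (χ : G → ℂ) g := by
  classical
  have := Fintype.ofFinite G
  have := Fintype.ofFinite X
  have hne : Nonempty X := ⟨x₀⟩
  choose χ hχ1 hχc using hd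
  have hχinj : Function.Injective χ := by
    intro a b hab
    apply hinj
    have h1 := hχ1 a
    rw [hab, hχ1 b] at h1
    exact_mod_cast h1.symm
  have hπc : IsCharacter G (fun g : G => (Nat.card (MulAction.fixedBy X g) : ℂ)) :=
    Cfsg.Agent.S0157.isCharacter_fixedBy X
  have hπ1 : (fun g : G => (Nat.card (MulAction.fixedBy X g) : ℂ)) 1 = ∑ i, (χ i : G → ℂ) 1 := by
    show (Nat.card (MulAction.fixedBy X (1 : G)) : ℂ) = _
    rw [MulAction.fixedBy_one_eq_univ]
    have h2 : Nat.card (Set.univ : Set X) = Nat.card X := Nat.card_univ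
    rw [h2, ← hs, Nat.cast_sum]
    exact Finset.sum_congr rfl fun i _ => (hχ1 i).symm
  have hsum := eq_sum_of_constituents hπc χ hχc hχinj hπ1
  -- the trivial character is one of them, of degree one
  have hpre : MulAction.IsPretransitive G X := ⟨fun x y => by
    obtain ⟨g, hg⟩ := htr x
    obtain ⟨k, hk⟩ := htr y
    exact ⟨k * g⁻¹, by rw [mul_smul, ← hg, inv_smul_smul, hk]⟩⟩
  have h10 : (χ 0 : G → ℂ) = fun _ => 1 := by
    have h3 : classInner (fun g : G => (Nat.card (MulAction.fixedBy X g) : ℂ)) 1 = 1 := by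
      have h4 := Cfsg.Agent.S0157.avg_fixedBy (G := G) X
      rw [Cfsg.Agent.S0157.card_orbits_of_pretransitive G X] at h4
      simpa [classInner] using h4
    have h5 : (fun g : G => (Nat.card (MulAction.fixedBy X g) : ℂ)) = ∑ i, (χ i : G → ℂ) := by
      funext g
      rw [Finset.sum_apply]
      exact hsum g
    rw [h5, classInner_sum_left] at h3
    have h6 : ∃ i, (χ i : G → ℂ) = 1 := by
      by_contra hcon
      push Not at hcon
      rw [Finset.sum_eq_zero fun i _ => classInner_irr_ne (χ i).2 isIrr_one (hcon i)] at h3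
      exact zero_ne_one h3
    obtain ⟨i, hi⟩ := h6
    have h7 : d i = 1 := by
      have h8 := hχ1 i
      rw [hi] at h8
      have : (1 : ℂ) = (d i : ℂ) := h8
      exact_mod_cast this.symm
    have h9 : i = 0 := hinj (by rw [h7, hd0])
    rw [← h9, hi]
    rfl
  have hmem : ∀ M : Ideal AlgInt, IsPModular p M → χ i ∈ principalBlock M G := fun M hM =>
    all_mem_principal hM x₀ htr χ h10 hsum hχ1 he hT i
  refine ⟨χ i, hmem, Blocks.Basic.charDegree_of_eq (hχ1 i), ?_⟩
  -- real: the conjugate is a constituent of the same degree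
  intro g
  have hconj : ∃ j, χ j = ⟨_, isIrr_conj (χ i).2⟩ := by
    by_contra hcon
    push Not at hcon
    have h5 : (fun g : G => (Nat.card (MulAction.fixedBy X g) : ℂ)) = ∑ i, (χ i : G → ℂ) := by
      funext g
      rw [Finset.sum_apply]
      exact hsum g
    have h6 : classInner (fun g : G => (Nat.card (MulAction.fixedBy X g) : ℂ)) (fun g => conj ((χ i : G → ℂ) g)) = 0 := by
      rw [h5, classInner_sum_left]
      refine Finset.sum_eq_zero fun j _ => classInner_irr_ne (χ j).2 (isIrr_conj (χ i).2) fun h => hcon j ?_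
      exact Subtype.ext h
    have h7 : classInner (fun g : G => (Nat.card (MulAction.fixedBy X g) : ℂ)) (χ i : G → ℂ) = 1 := by
      rw [h5, classInner_sum_left, Finset.sum_eq_single i]
      · exact classInner_irr_self (χ i).2
      · intro j _ hj
        exact classInner_irr_ne (χ j).2 (χ i).2 fun h => hj (hχinj (Subtype.ext h))
      · intro h
        exact absurd (Finset.mem_univ i) h
    have h8 : classInner (fun g : G => (Nat.card (MulAction.fixedBy X g) : ℂ)) (fun g => conj ((χ i : G → ℂ) g)) =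
        conj (classInner (fun g : G => (Nat.card (MulAction.fixedBy X g) : ℂ)) (χ i : G → ℂ)) := by
      simp only [classInner, map_mul, map_sum, map_inv₀, Complex.conj_natCast]
    rw [h8, h7, map_one] at h6
    exact one_ne_zero h6
  obtain ⟨j, hj⟩ := hconj
  have h9 : j = i := by
    apply hinj
    have h10 := hχ1 j
    rw [hj] at h10
    have h11 : conj ((χ i : G → ℂ) 1) = (d j : ℂ) := h10
    rw [hχ1 i, Complex.conj_natCast] at h11
    exact_mod_cast h11.symm
  rw [h9] at hj
  exact (congrFun (congrArg Subtype.val hj) g).symm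

end Cfsg.Agent.H619.BD
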