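import Cfsg.Agent.H619.R4.SporBase
import Cfsg.Agent.H619.BD.SchemeDec
import Cfsg.Agent.H133.PB.Basic
import Cfsg.Agent.S4483

/-!
# Data for `Kill p S` for the sporadic groups (S4932, helper619)

* `B0D p S d` : an irreducible character of degree `d` in the principal `p`-block of `S`;
* `KD p S` : `KCom p S ∨ KZer p S`, the data used by `kill_common` and `kill_zero` (`H589.BD.Crit`), for `|Out S| ≤ 2`;
* `B0D.of_real` : real characters of odd degree, `p = 2` (S4483);
* `B0D.rank_three`, `B0D.scheme` : constituents of permutation characters;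
* `KD.common`, `KD.zero`, `KD.congr`.
-/

set_option autoImplicit false

open Cfsg

namespace Cfsg.Agent.H619.BD

open Cfsg.Agent.Characters Cfsg.Agent.Characters.Core Cfsg.Agent.Blocks Cfsg.Agent.Blocks.LocalRing
open Cfsg.Agent.H619.R4
open scoped ComplexConjugate

universe u v

/-- An irreducible character of degree `d` in the principal `p`-block. -/
def B0D (p : ℕ) (S : Type*) [Group S] (d : ℕ) : Prop :=
  ∃ χ : IrrCharacter S, (∀ M : Ideal AlgInt, IsPModular p M → χ ∈ principalBlock M S) ∧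
    charDegree (χ : S → ℂ) = d

/-- Two degrees with a common prime. -/
def KCom (p : ℕ) (S : Type*) [Group S] : Prop :=
  ∃ a b r : ℕ, B0D p S a ∧ B0D p S b ∧ 1 < a ∧ 1 < b ∧ r.Prime ∧ r ≠ p ∧ r ∣ a ∧ r ∣ b ∧ a ≠ b ∧ a ≠ 2 * b ∧ b ≠ 2 * a

/-- One degree of `r`-defect zero and an element of order divisible by `p r`. -/
def KZer (p : ℕ) (S : Type*) [Group S] : Prop :=
  ∃ a r : ℕ, B0D p S a ∧ 1 < a ∧ r.Prime ∧ r ≠ p ∧ r ≠ 2 ∧ r ^ (Nat.card S).factorization r ∣ a ∧
    ∃ u : S, p * r ∣ orderOf u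

/-- The data for `Kill p S`. -/
def KD (p : ℕ) (S : Type*) [Group S] : Prop := KCom p S ∨ KZer p S

theorem B0D.congr {p : ℕ} {S T : Type*} [Group S] [Group T] [Finite S] (e : S ≃* T) {d : ℕ} (h : B0D p S d) :
    B0D p T d := by
  obtain ⟨χ, h1, h2⟩ := h
  have : Finite T := Finite.of_equiv _ e.toEquiv
  refine ⟨⟨(χ : S → ℂ) ∘ e.symm.toMonoidHom, isIrr_comp e.symm.toMonoidHom e.symm.surjective χ.2⟩, fun M hM => ?_, ?_⟩
  · have := isPrime hM
    exact Cfsg.Agent.H133.PB.mem_principalBlock_comp e.symm.toMonoidHom e.symm.surjective (h1 M hM)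
  · rw [← h2]
    show charDegree ((χ : S → ℂ) ∘ e.symm.toMonoidHom) = charDegree (χ : S → ℂ)
    unfold charDegree
    rw [Function.comp_apply, map_one]

theorem KCom.congr {p : ℕ} {S T : Type*} [Group S] [Group T] [Finite S] (e : S ≃* T) (h : KCom p S) : KCom p T := by
  obtain ⟨a, b, r, h1, h2, h3⟩ := h
  exact ⟨a, b, r, h1.congr e, h2.congr e, h3⟩

theorem KZer.congr {p : ℕ} {S T : Type*} [Group S] [Group T] [Finite S] (e : S ≃* T) (h : KZer p S) : KZer p T := by
  obtain ⟨a, r, h1, h2, h3, h4, h5, h6, u, hu⟩ := h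
  refine ⟨a, r, h1.congr e, h2, h3, h4, h5, ?_, e u, ?_⟩
  · rw [← Nat.card_congr e.toEquiv]
    exact h6
  · rw [MulEquiv.orderOf_eq e u]
    exact hu

theorem KD.congr {p : ℕ} {S T : Type*} [Group S] [Group T] [Finite S] (e : S ≃* T) (h : KD p S) : KD p T :=
  h.imp (fun h => h.congr e) fun h => h.congr e

/-- **A real character of odd degree is in the principal `2`-block.** -/
theorem B0D.of_real {S : Type*} [Group S] [Finite S] {d : ℕ} (h : RC S d) (hd : Odd d) : B0D 2 S d := by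
  obtain ⟨χ, h1, h2⟩ := h
  exact ⟨χ, fun M hM => (Cfsg.Agent.S4483.result M hM).1 χ h1 (by rw [h2]; exact hd), h2⟩

/-- A rational character of odd degree is in the principal `2`-block. -/
theorem B0D.of_rat {S : Type*} [Group S] [Finite S] {χ : S → ℂ} (hχ : IsIrrCharacter S χ) (hr : ∀ g, ∃ q : ℚ, χ g = q)
    {d : ℕ} (h1 : χ 1 = d) (hd : Odd d) : B0D 2 S d := by
  refine B0D.of_real ⟨⟨χ, hχ⟩, fun g => ?_, Cfsg.Agent.Blocks.Basic.charDegree_of_eq h1⟩ hd
  obtain ⟨q, hq⟩ := hr g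
  show (χ g).im = 0
  rw [hq]
  exact Complex.ratCast_im q

/-- `kill_common` data. -/
theorem KD.common {p : ℕ} {S : Type*} [Group S] {a b : ℕ} (r : ℕ) (ha : B0D p S a) (hb : B0D p S b) (h1 : 1 < a)
    (h2 : 1 < b) (hr : r.Prime) (hrp : r ≠ p) (ra : r ∣ a) (rb : r ∣ b) (h3 : a ≠ b) (h4 : a ≠ 2 * b) (h5 : b ≠ 2 * a) :
    KD p S := Or.inl ⟨a, b, r, ha, hb, h1, h2, hr, hrp, ra, rb, h3, h4, h5⟩

/-- `kill_zero` data. -/
theorem KD.zero {p : ℕ} {S : Type*} [Group S] {a : ℕ} (r : ℕ) (ha : B0D p S a) (h1 : 1 < a)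
    (hr : r.Prime) (hrp : r ≠ p) (hr2 : r ≠ 2) (hd : r ^ (Nat.card S).factorization r ∣ a) (u : S)
    (hu : p * r ∣ orderOf u) : KD p S := Or.inr ⟨a, r, ha, h1, hr, hrp, hr2, hd, u, hu⟩

/-- `p = 2`: two real odd degrees. -/
theorem KD.real {S : Type*} [Group S] [Finite S] {a b : ℕ} (r : ℕ) (ha : RC S a) (hb : RC S b) (oa : Odd a) (ob : Odd b)
    (h1 : 1 < a) (h2 : 1 < b) (hr : r.Prime) (hrp : r ≠ 2) (ra : r ∣ a) (rb : r ∣ b) (h3 : a ≠ b) : KD 2 S := by
  refine KD.common r (B0D.of_real ha oa) (B0D.of_real hb ob) h1 h2 hr hrp ra rb h3 ?_ ?_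
  · rintro rfl
    exact (Nat.not_odd_iff_even.2 (even_two_mul b)) oa
  · rintro rfl
    exact (Nat.not_odd_iff_even.2 (even_two_mul a)) ob

/-- An element of order `2 r` from the centralizer of an involution. -/
theorem exists_order {G : Type*} [Group G] [Finite G] {t : G} (ht : orderOf t = 2) {r : ℕ} (hr : r.Prime) (hr2 : r ≠ 2)
    (hd : r ∣ Nat.card (Subgroup.centralizer ({t} : Set G))) : ∃ u : G, 2 * r ∣ orderOf u := by
  have : Fact r.Prime := ⟨hr⟩
  obtain ⟨⟨y, hy⟩, hy2⟩ := exists_prime_orderOf_dvd_card' r hd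
  rw [Subgroup.orderOf_mk] at hy2
  have hc : Commute t y := (Subgroup.mem_centralizer_singleton_iff.1 hy).symm
  have hcop : (orderOf t).Coprime (orderOf y) := by
    rw [ht, hy2]
    exact (Nat.coprime_primes Nat.prime_two hr).2 (Ne.symm hr2)
  refine ⟨t * y, ?_⟩
  rw [hc.orderOf_mul_eq_mul_orderOf_of_coprime hcop, ht, hy2]

/-- `p = 2`: a real odd degree of `r`-defect zero and an involution with `r ∣ |C(t)|`. -/
theorem KD.invol {S : Type*} [Group S] [Finite S] {a : ℕ} (r : ℕ) (ha : RC S a) (oa : Odd a) (h1 : 1 < a)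
    (hr : r.Prime) (hr2 : r ≠ 2) (hd : r ^ (Nat.card S).factorization r ∣ a) {t : S} (ht : orderOf t = 2)
    (hc : r ∣ Nat.card (Subgroup.centralizer ({t} : Set S))) : KD 2 S := by
  obtain ⟨u, hu⟩ := exists_order ht hr hr2 hc
  exact KD.zero r (B0D.of_real ha oa) h1 hr hr2 hr2 hd u hu

/-- The exponent of `r` in the order. -/
theorem factorization_card {S : Type*} [Group S] {n r k : ℕ} (hc : Nat.card S = n) (hr : r.Prime) (h0 : n ≠ 0)
    (h1 : r ^ k ∣ n) (h2 : ¬ r ^ (k + 1) ∣ n) : (Nat.card S).factorization r = k := by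
  rw [hc]
  apply le_antisymm
  · by_contra hcon
    exact h2 ((hr.pow_dvd_iff_le_factorization h0).2 (by omega))
  · exact (hr.pow_dvd_iff_le_factorization h0).1 h1

/-- **Rank 3: both constituents are in the principal block.** -/
theorem B0D.rank_three {p : ℕ} {G : Type u} [Group G] [Finite G] {X : Type v} [MulAction G X]
    {R : X → X → Prop} {k l : ℕ}
    (h : Cfsg.Agent.H690.Spor.RankThree.R3 G X R k l) (hodd : Odd (k + l) ∨ ¬ (k + l) / 2 ∣ Nat.card G) {a b d : ℕ}
    (hab : a + b = k + l) (hlt : a < b) (hd : k + l < 2 ^ d) (hc : rng (cand k l a) d 0 = true) {e : ℕ}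
    (he : p ^ e ∣ 1 + k + l) (h1 : 1 % p ^ e ≠ 0) (h2 : (1 + a) % p ^ e ≠ 0) (h3 : (1 + b) % p ^ e ≠ 0) :
    B0D p G a ∧ B0D p G b := by
  classical
  obtain ⟨χ₁, χ₂, e1, e2, r1, r2, hπ⟩ := pair_decomp h hodd hab hlt hd hc
  have hn := h.cardn
  have hfin : Finite X := by
    by_contra hcon
    rw [not_finite_iff_infinite] at hcon
    rw [Nat.card_eq_zero_of_infinite] at hn
    omega
  have hne : Nonempty X := by
    by_contra hcon
    rw [not_nonempty_iff] at hcon
    rw [Nat.card_of_isEmpty] at hn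
    omega
  obtain ⟨x₀⟩ := hne
  have htr : ∀ x : X, ∃ g : G, g • x₀ = x := fun x => h.trans.exists_smul_eq x₀ x
  let χ : Fin 3 → IrrCharacter G := ![⟨fun _ => 1, isIrr_one⟩, χ₁, χ₂]
  let dg : Fin 3 → ℕ := ![1, a, b]
  have key : ∀ M : Ideal AlgInt, IsPModular p M → ∀ i, χ i ∈ principalBlock M G := fun M hM =>
    all_mem_principal (e := e) hM x₀ htr χ rfl (fun g => by
      rw [hπ g, Fin.sum_univ_three]
      rfl) (d := dg) (fun i => by
        fin_cases i
        · simp [χ, dg]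
        · exact e1
        · exact e2) (by
        rw [Fin.sum_univ_three]
        show p ^ e ∣ 1 + a + b
        have : 1 + a + b = 1 + k + l := by omega
        rw [this]
        exact he) (by
        intro T h0 hT
        have h4 : ∑ i ∈ T, dg i = 1 + (if (1 : Fin 3) ∈ T then a else 0) + if (2 : Fin 3) ∈ T then b else 0 := by
          have h5 : ∑ i ∈ T, dg i = ∑ i : Fin 3, if i ∈ T then dg i else 0 := by
            rw [Finset.sum_ite_mem, Finset.univ_inter]
          rw [h5, Fin.sum_univ_three, if_pos h0]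
          rfl
        rw [h4] at hT
        by_cases h5 : (1 : Fin 3) ∈ T <;> by_cases h6 : (2 : Fin 3) ∈ T
        · rw [Finset.eq_univ_iff_forall]
          intro i
          fin_cases i
          · exact h0
          · exact h5
          · exact h6
        · rw [if_pos h5, if_neg h6, add_zero] at hT
          exact absurd hT h2
        · rw [if_neg h5, if_pos h6, add_zero] at hT
          exact absurd hT h3
        · rw [if_neg h5, if_neg h6] at hT
          exact absurd hT h1)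
  exact ⟨⟨χ₁, fun M hM => key M hM 1, Blocks.Basic.charDegree_of_eq e1⟩,
    ⟨χ₂, fun M hM => key M hM 2, Blocks.Basic.charDegree_of_eq e2⟩⟩

/-- **Association schemes: all constituents are in the principal block.** -/
theorem B0D.scheme {p : ℕ} {G : Type u} [Group G] [Finite G] {X : Type v} [MulAction G X] [Finite X] (x₀ : X)
    (htr : ∀ x : X, ∃ g : G, g • x₀ = x) {n : ℕ} {d : Fin (n + 1) → ℕ} (hd0 : d 0 = 1)
    (hd : ∀ i, ∃ χ : IrrCharacter G, (χ : G → ℂ) 1 = d i ∧ ∃ c' : G → ℂ, IsCharacter G c' ∧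
      (fun g : G => (Nat.card (MulAction.fixedBy X g) : ℂ)) = (χ : G → ℂ) + c')
    (hinj : Function.Injective d) (hs : ∑ i, d i = Nat.card X) {e : ℕ} (he : p ^ e ∣ ∑ i, d i)
    (hT : ∀ T : Finset (Fin (n + 1)), 0 ∈ T → (∑ i ∈ T, d i) % p ^ e = 0 → T = Finset.univ) (i : Fin (n + 1)) :
    B0D p G (d i) := by
  obtain ⟨χ, h1, h2, -⟩ := all_degrees x₀ htr hd0 hd hinj hs he hT i
  exact ⟨χ, h1, h2⟩

end Cfsg.Agent.H619.BD
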