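import Cfsg.Agent.H619.BD.KData
import Cfsg.Agent.H956.K4.McLRow

/-!
# `McL` (S4932, helper619)

The rational characters of the degrees `5103 = 3^6 · 7` and `9625 = 5^3 · 7 · 11` (helper956).
-/

set_option autoImplicit false

open Cfsg

namespace Cfsg.Agent.H619.BD

open Cfsg.Agent.Characters.Core Cfsg.Agent.H956.K4.McLRow
open Cfsg.Agent.H904.McLCent Cfsg.Agent.McLType.X275 Cfsg.Agent.McLType.Gens
open Cfsg.Agent.H956.K4.McLBase (card_K0)

universe u

theorem kd_mcl {S : Type u} [Group S] (h : Spor.IsoMcL S) : KD 2 S := by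
  obtain ⟨θ, R⟩ := exists_rep h
  let f : S ≃* K0 := (MonoidHom.ofInjective R.inj).trans (MulEquiv.subgroupCongr R.range)
  have hc : Nat.card S = 898128000 := by rw [Nat.card_congr f.toEquiv, card_K0]
  have hfin : Finite S := Nat.finite_of_card_ne_zero (by rw [hc]; norm_num)
  obtain ⟨χ₂, h2, h2'⟩ := transfer f Cfsg.Agent.H956.K4.McLDeg.deg_5103
  obtain ⟨χ₃, h3, h3'⟩ := transfer f Cfsg.Agent.H956.K4.McLDeg.deg_9625
  have hd : ∀ (χ : IrrCharacter S) {d : ℕ}, charDegree (χ : S → ℂ) = d → (χ : S → ℂ) 1 = d := fun χ d hd => by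
    rw [Cfsg.Agent.Blocks.Basic.irr_one_eq_charDegree χ.2, hd]
  have b2 : B0D 2 S 5103 := B0D.of_rat χ₂.2 (rat_of_rt (isIrr_isCharacter χ₂.2) h2') (hd _ h2) (by decide)
  have b3 : B0D 2 S 9625 := B0D.of_rat χ₃.2 (rat_of_rt (isIrr_isCharacter χ₃.2) h3') (hd _ h3) (by decide)
  exact KD.common 7 b2 b3 (by norm_num) (by norm_num) (by norm_num) (by norm_num) (by norm_num) (by norm_num)
    (by norm_num) (by norm_num) (by norm_num)

end Cfsg.Agent.H619.BD
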