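import Cfsg.Agent.Blocks.Osima
import Cfsg.Agent.Blocks.LocalRing
import Cfsg.Agent.Blocks.Basic

/-!
# The block part of a permutation character (S4932, helper619)

`X` a transitive `G`-set, `π = ∑ i, χ i` its permutation character, `B` a `p`-block: the `p`-part of `|X|` divides the
sum of the degrees of the `χ i` in `B`.
-/

set_option autoImplicit false

universe u v

namespace Cfsg.Agent.H619.BD

open Cfsg Cfsg.Agent.Characters.Core Cfsg.Agent.Blocks.LocalRing Cfsg.Agent.Blocks.Osima
open scoped ComplexConjugate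

variable {p : ℕ} {M : Ideal AlgInt} {G : Type u} [Group G] [Finite G]

/-- A natural number divisible by `n` in the local ring is divisible by the `p`-part of `n`. -/
theorem ordProj_dvd_of_mem (hM : IsPModular p M) {m n : ℕ} (hn : n ≠ 0) {r : ℂ} (hr : MemLocalRing M r)
    (h : (m : ℂ) = n * r) : p ^ n.factorization p ∣ m := by
  have hp : p.Prime := prime hM
  by_contra hcon
  have hm : m ≠ 0 := fun h0 => hcon (h0 ▸ dvd_zero _)
  have h1 : m.factorization p < n.factorization p := by
    by_contra h2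
    exact hcon ((hp.pow_dvd_iff_le_factorization hm).2 (not_lt.1 h2))
  obtain ⟨m', hm'⟩ := Nat.ordProj_dvd m p
  have h3 : p ^ (m.factorization p + 1) ∣ n :=
    (hp.pow_dvd_iff_le_factorization hn).2 h1
  obtain ⟨n', hn'⟩ := h3
  have hp0 : (p : ℂ) ≠ 0 := by exact_mod_cast hp.ne_zero
  have h4 : (m' : ℂ) = (p : ℂ) * ((n' : ℂ) * r) := by
    apply mul_left_cancel₀ (pow_ne_zero (m.factorization p) hp0)
    have h5 : (m : ℂ) = (p : ℂ) ^ m.factorization p * m' := by exact_mod_cast hm'
    have h6 : (n : ℂ) = (p : ℂ) ^ (m.factorization p + 1) * n' := by exact_mod_cast hn'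
    rw [← h5, h, h6]
    ring
  have h6 : MemLocalIdeal M (m' : ℂ) := by
    rw [h4]
    exact memLocalIdeal_mul_right hM (memLocalIdeal_prime hM)
      (memLocalRing_mul hM (memLocalRing_natCast hM n') hr)
  rw [memLocalIdeal_natCast_iff hM] at h6
  obtain ⟨c, hc⟩ := h6
  apply Nat.pow_succ_factorization_not_dvd hm hp
  exact ⟨c, by rw [pow_succ, mul_assoc, ← hc, ← hm']⟩

open scoped Classical in
/-- The `B`-part of a character with the idempotent of `B`. -/
theorem sum_mul_blockCoeff [Fintype G] {ι : Type*} [Fintype ι] (χ : ι → IrrCharacter G) (B : Set (IrrCharacter G)) :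
    ∑ g : G, (∑ i, (χ i : G → ℂ) g) * blockCoeff B g =
      ((∑ i with χ i ∈ B, charDegree (χ i : G → ℂ) : ℕ) : ℂ) := by
  have := finite_irr (G := G)
  have := Fintype.ofFinite (IrrCharacter G)
  have hc : (Nat.card G : ℂ) ≠ 0 := card_ne_zero_complex
  have h1 : ∀ i, ∑ g : G, (χ i : G → ℂ) g * blockCoeff B g =
      if χ i ∈ B then (charDegree (χ i : G → ℂ) : ℂ) else 0 := by
    intro i
    have h2 : ∀ g : G, (χ i : G → ℂ) g * blockCoeff B g = ∑ ψ : IrrCharacter G,
        if ψ ∈ B then (ψ : G → ℂ) 1 * ((Nat.card G : ℂ)⁻¹ * ((χ i : G → ℂ) g * conj ((ψ : G → ℂ) g))) else 0 := by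
      intro g
      rw [blockCoeff_eq_sum, Finset.mul_sum, Finset.mul_sum]
      refine Finset.sum_congr rfl fun ψ _ => ?_
      split_ifs
      · ring
      · ring
    rw [Finset.sum_congr rfl fun g _ => h2 g, Finset.sum_comm]
    have h3 : ∀ ψ : IrrCharacter G, (∑ g : G, if ψ ∈ B then (ψ : G → ℂ) 1 * ((Nat.card G : ℂ)⁻¹ *
        ((χ i : G → ℂ) g * conj ((ψ : G → ℂ) g))) else 0) = if ψ = χ i then
          (if χ i ∈ B then (charDegree (χ i : G → ℂ) : ℂ) else 0) else 0 := by
      intro ψ
      have h4 : (Nat.card G : ℂ)⁻¹ * ∑ g : G, (χ i : G → ℂ) g * conj ((ψ : G → ℂ) g) = if χ i = ψ then 1 else 0 := by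
        rw [← classInner_def]
        by_cases h : χ i = ψ
        · rw [if_pos h, h]
          exact classInner_irr_self ψ.2
        · rw [if_neg h]
          exact classInner_irr_ne (χ i).2 ψ.2 (fun h' => h (Subtype.ext h'))
      by_cases hB : ψ ∈ B
      · simp only [if_pos hB]
        rw [← Finset.mul_sum, ← Finset.mul_sum, h4]
        by_cases h : χ i = ψ
        · rw [if_pos h, if_pos h.symm, h, if_pos hB, mul_one]
          exact Blocks.Basic.irr_one_eq_charDegree ψ.2
        · rw [if_neg h, if_neg (fun h' => h h'.symm), mul_zero]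
      · simp only [if_neg hB, Finset.sum_const_zero]
        by_cases h : χ i = ψ
        · rw [if_pos h.symm, h, if_neg hB]
        · rw [if_neg (fun h' => h h'.symm)]
    rw [Finset.sum_congr rfl fun ψ _ => h3 ψ, Finset.sum_ite_eq']
    simp
  simp only [Finset.sum_mul]
  rw [Finset.sum_comm, Finset.sum_congr rfl fun i _ => h1 i, ← Finset.sum_filter]
  push_cast
  rfl

variable {X : Type v} [MulAction G X] [Finite X]

/-- `∑_g |Fix(g)| c(g) = |X| ∑_{g ∈ G_x} c(g)` for a class function `c` and a transitive action. -/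
theorem sum_fixed_mul [Fintype G] (x₀ : X) (htr : ∀ x : X, ∃ g : G, g • x₀ = x) {c : G → ℂ}
    (hc : IsClassFunction G c) :
    ∑ g : G, (Nat.card (MulAction.fixedBy X g) : ℂ) * c g =
      (Nat.card X : ℂ) * ∑ᶠ g : MulAction.stabilizer G x₀, c g := by
  classical
  have := Fintype.ofFinite X
  have h1 : ∀ g : G, (Nat.card (MulAction.fixedBy X g) : ℂ) = ∑ x : X, if g • x = x then 1 else 0 := by
    intro g
    rw [Finset.sum_boole, Nat.card_eq_fintype_card, Fintype.card_subtype]
    rfl
  have h2 : ∀ x : X, ∑ g : G, (if g • x = x then (1 : ℂ) else 0) * c g =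
      ∑ᶠ g : MulAction.stabilizer G x₀, c g := by
    intro x
    obtain ⟨h, rfl⟩ := htr x
    rw [finsum_eq_sum_of_fintype]
    have h3 : ∑ g : G, (if g • h • x₀ = h • x₀ then (1 : ℂ) else 0) * c g =
        ∑ g : G, (if g • x₀ = x₀ then (1 : ℂ) else 0) * c g := by
      refine (Fintype.sum_bijective (fun g : G => h * g * h⁻¹) (MulAut.conj h).bijective _ _ fun g => ?_).symm
      have h4 : (h * g * h⁻¹) • h • x₀ = h • x₀ ↔ g • x₀ = x₀ := by
        rw [smul_smul, inv_mul_cancel_right, mul_smul, smul_left_cancel_iff]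
      have h5 : c (h * g * h⁻¹) = c g := hc g h
      rw [h5]
      simp only [h4]
    rw [h3]
    simp only [ite_mul, one_mul, zero_mul]
    rw [← Finset.sum_filter, Finset.sum_subtype (Finset.univ.filter fun g : G => g • x₀ = x₀)
      (p := fun g : G => g ∈ MulAction.stabilizer G x₀) (fun g => by simp)]
  calc ∑ g : G, (Nat.card (MulAction.fixedBy X g) : ℂ) * c g
      = ∑ g : G, ∑ x : X, (if g • x = x then (1 : ℂ) else 0) * c g :=
        Finset.sum_congr rfl fun g _ => by rw [h1, Finset.sum_mul]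
    _ = ∑ x : X, ∑ g : G, (if g • x = x then (1 : ℂ) else 0) * c g := Finset.sum_comm
    _ = (Nat.card X : ℂ) * ∑ᶠ g : MulAction.stabilizer G x₀, c g := by
        rw [Finset.sum_congr rfl fun x _ => h2 x, Finset.sum_const, nsmul_eq_mul, Finset.card_univ,
          Nat.card_eq_fintype_card]

open scoped Classical in
/-- **The block part of a permutation character.** -/
theorem perm_block_dvd (hM : IsPModular p M) {B : Set (IrrCharacter G)} (hB : IsPBlock M B) (x₀ : X)
    (htr : ∀ x : X, ∃ g : G, g • x₀ = x) {ι : Type*} [Fintype ι] (χ : ι → IrrCharacter G)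
    (hπ : ∀ g : G, (Nat.card (MulAction.fixedBy X g) : ℂ) = ∑ i, (χ i : G → ℂ) g) :
    p ^ (Nat.card X).factorization p ∣ ∑ i with χ i ∈ B, charDegree (χ i : G → ℂ) := by
  have := Fintype.ofFinite G
  have : Nonempty X := ⟨x₀⟩
  have h1 := sum_mul_blockCoeff χ B
  rw [Finset.sum_congr rfl fun g _ => by rw [← hπ g], sum_fixed_mul x₀ htr (isClassFunction_blockCoeff B)] at h1
  exact ordProj_dvd_of_mem hM Nat.card_pos.ne' (memLocalRing_finsum hM
    (fun g : MulAction.stabilizer G x₀ => blockCoeff B (g : G)) fun g => memLocalRing_blockCoeff hM hB (g : G)) h1.symm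

end Cfsg.Agent.H619.BD
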