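import Cfsg.Agent.H619.BD.KData
import Cfsg.Agent.KFacts.SuzTwoB
import Cfsg.Agent.NotCT.Orders
import Cfsg.Agent.S1680

/-!
# `Suz` (S4932, helper619)

`1001 = 7 · 11 · 13`, an involution with a centralizer of order `161280 = 7 · 23040`.
-/

set_option autoImplicit false

open Cfsg

namespace Cfsg.Agent.H619.BD

open Cfsg.Agent.H619.R4 Cfsg.Agent.H690.Spor

universe u

theorem kd_suz {S : Type u} [Group S] (h : Spor.IsoSuz S) : KD 2 S := by
  obtain ⟨e⟩ := h
  have hc : Nat.card Spor.Suz = 448345497600 := Cfsg.Agent.NotCT.Orders.suz (K := Spor.Suz) ⟨MulEquiv.refl _⟩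
  have : Finite Spor.Suz := Nat.finite_of_card_ne_zero (by rw [hc]; norm_num)
  obtain ⟨hi, q₁, q₂, h1, h2⟩ := Cfsg.Agent.S1680.result
  obtain ⟨R, hR⟩ := RankThree.R3.of_index _ (by rw [hi]) h1 h2 (by norm_num) (by norm_num) (by norm_num)
  have hrc := rc_suz hR
  have hz : Nat.card (Subgroup.centralizer ({Cfsg.Agent.KFacts.SuzLFour.e0} : Set Spor.Suz)) = 161280 :=
    Cfsg.Agent.KFacts.SuzTwoB.card_CE
  have ho : orderOf (Cfsg.Agent.KFacts.SuzLFour.e0 : Spor.Suz) = 2 := by
    refine orderOf_eq_prime (by rw [pow_two]; exact Cfsg.Agent.KFacts.SuzLFour.e0_sq) ?_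
    intro h0
    rw [h0] at hz
    have h3 : Subgroup.centralizer ({(1 : Spor.Suz)} : Set Spor.Suz) = ⊤ := by
      rw [Subgroup.eq_top_iff']
      intro x
      rw [Subgroup.mem_centralizer_singleton_iff, mul_one, one_mul]
    rw [h3, Subgroup.card_top, hc] at hz
    norm_num at hz
  refine KD.congr e.symm (KD.invol 7 hrc.2 (by decide) (by norm_num) (by norm_num) (by norm_num) ?_ ho ?_)
  · rw [factorization_card (k := 1) hc (by norm_num) (by norm_num) (by norm_num) (by norm_num)]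
    norm_num
  · rw [hz]
    norm_num

end Cfsg.Agent.H619.BD
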