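import Cfsg.Agent.H619.BD.KData
import Cfsg.Agent.H494.R4.TitsAct

/-!
# The Tits group (S4932, helper619)

`1755 = 1 + 78 + 351 + 650 + 675`; `351 = 27 · 13`, `675 = 27 · 25`.
-/

set_option autoImplicit false

open Cfsg

namespace Cfsg.Agent.H619.BD.Tits

open Cfsg.Agent.H619.R4 Cfsg.Agent.H494.R4.TitsAct
open Cfsg.Agent.H707.RowTitsModel Cfsg.Agent.SporadicB.RuTits
open Cfsg.Agent.H707.Odd.Tits (B')

universe u

theorem huniq675 (a' : Fin 5 → ℚ) (h : ∀ i, ∑ j, (B' i j : ℚ) * a' j = (-3) * a' i) (i : Fin 5) :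
    a' i = a' 0 * (![1, -3/10, 1/40, 1/40, -1/64] : Fin 5 → ℚ) i := by
  have h0 := h 0
  have h1 := h 1
  have h2 := h 2
  have h3 := h 3
  simp only [B', Fin.sum_univ_five, Matrix.cons_val] at h0 h1 h2 h3
  norm_num at h0 h1 h2 h3
  fin_cases i
  · show a' 0 = a' 0 * 1
    rw [mul_one]
  · show a' 1 = a' 0 * (-3 / 10)
    linarith
  · show a' 2 = a' 0 * (1 / 40)
    linarith
  · show a' 3 = a' 0 * (1 / 40)
    linarith
  · show a' 4 = a' 0 * (-1 / 64)
    linarith

theorem hi (q : T) (x : X) : (id q : T) • x = q • x := rfl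

theorem hn (g q : T) : ∃ q' : T, ∀ x : X, (g * id q * g⁻¹) • x = q' • x := ⟨g * q * g⁻¹, fun _ => rfl⟩

theorem finite_T : Finite T :=
  Nat.finite_of_card_ne_zero (by rw [Cfsg.Agent.SporadicB.RuTits.card_T]; norm_num)

theorem rc351 : RC T 351 := by
  have := finite_T
  exact rc_351 (G := T) id hi hn

theorem rc675 : RC T 675 := by
  have := finite_T
  exact rc_of (G := T) id hi hn 1 B' count1 ![1, -3/10, 1/40, 1/40, -1/64] (-3) (by decide +kernel) huniq675 rfl 675
    (by decide +kernel)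

theorem kd_tits {S : Type u} [Group S] (h : Cfsg.Lie.IsoTits S) : KD 2 S := by
  obtain ⟨e⟩ := exists_equiv h
  have := finite_T
  exact KD.congr e.symm (KD.real 3 rc351 rc675 (by decide) (by decide) (by norm_num) (by norm_num) (by norm_num)
    (by norm_num) (by norm_num) (by norm_num) (by norm_num))

end Cfsg.Agent.H619.BD.Tits
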