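import Cfsg.Agent.H619.BD.TameSpor
import Cfsg.Agent.H619.BD.Glue
import Cfsg.Agent.H619.BD.Suz
import Cfsg.Agent.H619.BD.McL
import Cfsg.Agent.H619.BD.Conway
import Cfsg.Agent.H619.BD.Tits
import Cfsg.Agent.H680.BD.HS
import Cfsg.Agent.H89.BD.Spor
import Cfsg.Agent.H728.DL.Fi22
import Cfsg.Agent.H728.DL.Fi23
import Cfsg.Agent.H728.DL.Fi24
import Cfsg.Agent.H51.BD.KillRow
import Cfsg.Agent.H849.BD.Exc
import Cfsg.Agent.H997.PF.OutPart

/-!
# S4932, S4953: the rows of the sporadic groups and of the Tits group (helper619)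
-/

set_option autoImplicit false

open Cfsg

namespace Cfsg.Agent.H619.BD

open Cfsg.Agent.H589.BD Cfsg.Agent.H51.BD

universe u v

theorem out_one {S : Type u} [Group S] {T : Type v} [Group T] (e : S ≃* T) (h : Nat.card (Out T) = 1) :
    Nat.card (Out S) = 1 := (card_out_congr e).trans h

theorem out_two {S : Type u} [Group S] {T : Type v} [Group T] (e : S ≃* T) (h : Nat.card (Out T) = 2) :
    Nat.card (Out S) ∣ 2 := by
  rw [card_out_congr e, h]

theorem prime_two_three_five {p : ℕ} (hp : p.Prime) : p = 2 ∨ p = 3 ∨ 5 ≤ p := by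
  by_contra hcon
  push Not at hcon
  have h2 := hp.two_le
  have h3 : p = 4 := by omega
  rw [h3] at hp
  exact absurd hp (by decide)

variable {S : Type u} [Group S] [Finite S] [IsSimpleGroup S] (hna : ¬ IsMulCommutative S) (hS : SizeOK S)

include hna hS

/-- A group with trivial outer automorphism group. -/
theorem row1 {T : Type v} [Group T] (e : S ≃* T) (ho : Nat.card (Out T) = 1) (hk : KD 2 S)
    (ht : ∀ p : ℕ, p.Prime → p ≠ 2 → Tame p S) {p : ℕ} (hp : p.Prime) (hd : p ∣ Nat.card S) : Row p S := by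
  rcases eq_or_ne p 2 with rfl | h2
  · have : Fact (Nat.Prime 2) := ⟨hp⟩
    have h1 := out_one e ho
    exact Or.inl (hk.kill hna hS hd (by rw [h1]; norm_num) (Or.inl rfl))
  · exact Or.inr (ht p hp h2)

/-- A group with outer automorphism group of order `2`. -/
theorem row2 {T : Type v} [Group T] (e : S ≃* T) (ho : Nat.card (Out T) = 2) (hk : KD 2 S)
    (ht : ∀ p : ℕ, p.Prime → p ≠ 2 → Tame p S) {p : ℕ} (hp : p.Prime) (hd : p ∣ Nat.card S) : Row p S := by
  rcases eq_or_ne p 2 with rfl | h2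
  · have : Fact (Nat.Prime 2) := ⟨hp⟩
    exact Or.inl (hk.kill hna hS hd (out_two e ho) (Or.inl rfl))
  · exact Or.inr (ht p hp h2)

/-- `Kill` at `2` and `3`. -/
theorem row3 (ho : Nat.card (Out S) = 1) (hk : KD 2 S) (hk3 : KD 3 S)
    (ht : ∀ p : ℕ, p.Prime → 5 ≤ p → Tame p S) {p : ℕ} (hp : p.Prime) (hd : p ∣ Nat.card S) : Row p S := by
  have : Fact p.Prime := ⟨hp⟩
  rcases prime_two_three_five hp with rfl | rfl | h5
  · exact Or.inl (hk.kill hna hS hd (by rw [ho]; norm_num) (Or.inl rfl))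
  · exact Or.inl (hk3.kill hna hS hd (by rw [ho]; norm_num) (Or.inr ho))
  · exact Or.inr (ht p hp h5)

theorem row_m12 (h : Spor.IsoM12 S) {p : ℕ} (hp : p.Prime) (hd : p ∣ Nat.card S) : Row p S := by
  obtain ⟨e⟩ := id h
  exact row2 hna hS e S2061.result (Cfsg.Agent.H89.BD.kd_m12 h) (fun p hp h2 => tame_m12 hna hp h2 h) hp hd

theorem row_m22 (h : Spor.IsoM22 S) {p : ℕ} (hp : p.Prime) (hd : p ∣ Nat.card S) : Row p S := by
  obtain ⟨e⟩ := id h
  exact row2 hna hS e S2062.result (Cfsg.Agent.H89.BD.kd_m22 h) (fun p hp h2 => tame_m22 hna hp h2 h) hp hd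

theorem row_j2 (h : Spor.IsoJ2 S) {p : ℕ} (hp : p.Prime) (hd : p ∣ Nat.card S) : Row p S := by
  obtain ⟨e⟩ := id h
  exact row2 hna hS e S2066.result (Cfsg.Agent.H89.BD.kd_j2 h) (fun p hp h2 => tame_j2 hna hp h2 h) hp hd

theorem row_j3 (h : Spor.IsoJ3 S) {p : ℕ} (hp : p.Prime) (hd : p ∣ Nat.card S) : Row p S := by
  obtain ⟨F, _, _, ω, hF, hω, ⟨e⟩⟩ := id h
  exact row2 hna hS e (S2067.result hF ω hω) (Cfsg.Agent.H89.BD.kd_j3 h) (fun p hp h2 => tame_j3 hna hp h2 h) hp hd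

theorem row_j4 (h : Spor.IsoJ4 S) {p : ℕ} (hp : p.Prime) (hd : p ∣ Nat.card S) : Row p S := by
  obtain ⟨e⟩ := id h
  exact row1 hna hS e S2068.result (Cfsg.Agent.H89.BD.kd_j4 h) (fun p hp h2 => tame_j4 hna hp h2 h) hp hd

theorem row_co1 (h : Spor.IsoCo1 S) {p : ℕ} (hp : p.Prime) (hd : p ∣ Nat.card S) : Row p S := by
  obtain ⟨e⟩ := id h
  exact row1 hna hS e S2069.result (kd_co1 h) (fun p hp h2 => tame_co1 hna hp h2 h) hp hd

theorem row_co2 (h : Spor.IsoCo2 S) {p : ℕ} (hp : p.Prime) (hd : p ∣ Nat.card S) : Row p S := by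
  obtain ⟨e⟩ := id h
  exact row1 hna hS e S2070.result (kd_co2 h) (fun p hp h2 => tame_co2 hna hp h2 h) hp hd

theorem row_mcl (h : Spor.IsoMcL S) {p : ℕ} (hp : p.Prime) (hd : p ∣ Nat.card S) : Row p S := by
  obtain ⟨e⟩ := id h
  exact row2 hna hS e S2073.result (kd_mcl h) (fun p hp h2 => tame_mcl hna hp h2 h) hp hd

theorem row_hs (h : Spor.IsoHS S) {p : ℕ} (hp : p.Prime) (hd : p ∣ Nat.card S) : Row p S := by
  obtain ⟨e⟩ := id h
  exact row2 hna hS e S2072.result (Cfsg.Agent.H680.BD.kd_hs h) (fun p hp h2 => tame_hs hna hp h2 h) hp hd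

theorem row_suz (h : Spor.IsoSuz S) {p : ℕ} (hp : p.Prime) (hd : p ∣ Nat.card S) : Row p S := by
  obtain ⟨e⟩ := id h
  exact row2 hna hS e S2074.result (kd_suz h) (fun p hp h2 => tame_suz hna hp h2 h) hp hd

theorem row_ru (h : Spor.IsoRu S) {p : ℕ} (hp : p.Prime) (hd : p ∣ Nat.card S) : Row p S := by
  obtain ⟨e⟩ := id h
  exact row1 hna hS e S2077.result (kd_ru h) (fun p hp h2 => tame_ru hna h hp h2) hp hd

theorem row_hn (h : Spor.IsoHN S) {p : ℕ} (hp : p.Prime) (hd : p ∣ Nat.card S) : Row p S := by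
  obtain ⟨e⟩ := id h
  exact row2 hna hS e S2082.result (kd_hn h) (fun p hp h2 => tame_hn hna h hp h2) hp hd

theorem row_th (h : Spor.IsoTh S) {p : ℕ} (hp : p.Prime) (hd : p ∣ Nat.card S) : Row p S := by
  obtain ⟨e⟩ := id h
  exact row1 hna hS e S2083.result (kd_th h) (fun p hp h2 => tame_th hna h hp h2) hp hd

theorem row_fi22 (h : Spor.IsoFi22 S) {p : ℕ} (hp : p.Prime) (hd : p ∣ Nat.card S) : Row p S := by
  obtain ⟨e⟩ := id h
  exact row2 hna hS e S2079.result (Cfsg.Agent.H728.DL.Fi22.kd_fi22 h) (fun p hp h2 => tame_fi22 hna hp h2 h) hp hd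

theorem row_fi23 (h : Spor.IsoFi23 S) {p : ℕ} (hp : p.Prime) (hd : p ∣ Nat.card S) : Row p S := by
  obtain ⟨e⟩ := id h
  have h3 := Cfsg.Agent.H728.DL.Fi23.b0_three h
  exact row3 hna hS (out_one e S2080.result) (Cfsg.Agent.H728.DL.Fi23.kd_two h)
    (KD.common 2 h3.1 h3.2 (by norm_num) (by norm_num) (by norm_num) (by norm_num) (by norm_num)
      (by norm_num) (by norm_num) (by norm_num) (by norm_num))
    (fun p hp h5 => tame_fi23 hna hp h5 h) hp hd

theorem row_fi24 (h : Spor.IsoFi24' S) {p : ℕ} (hp : p.Prime) (hd : p ∣ Nat.card S) : Row p S := by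
  obtain ⟨e⟩ := id h
  have : Fact p.Prime := ⟨hp⟩
  have ho : Nat.card (Out S) = 2 := (card_out_congr e).trans S2081.result
  rcases prime_two_three_five hp with rfl | rfl | h5
  · exact Or.inl ((Cfsg.Agent.H728.DL.Fi24.kd_two h).kill hna hS hd (by rw [ho]) (Or.inl rfl))
  · have h3 := Cfsg.Agent.H728.DL.Fi24.b0_three h
    exact Or.inl (kill_of_pair hna hS hd (by rw [ho]) h3.1 h3.2 (by norm_num) (by norm_num) (g := 17)
      (by rw [ho]; norm_num) (by norm_num) (by norm_num) (by norm_num) (by norm_num) (by norm_num))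
  · exact Or.inr (tame_fi24 hna hp h5 h)

/-- The Tits group. -/
theorem row_tits (h : Lie.IsoTits S) {p : ℕ} (hp : p.Prime) (hd : p ∣ Nat.card S) : Row p S := by
  rcases eq_or_ne p 2 with rfl | h2
  · have : Fact (Nat.Prime 2) := ⟨hp⟩
    exact Or.inl ((Tits.kd_tits h).kill hna hS hd (Cfsg.Agent.H997.PF.OutPart.card_out_tits h) (Or.inl rfl))
  · exact Or.inr (Cfsg.Agent.H849.BD.tame_Tits hna h hp (by have := hp.two_le; omega))

/-- The sporadic groups, from the data of `B` and `M`. -/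
theorem row_sporadic_of (hB : ∀ (S : Type u) [Group S], Spor.IsoB S → KD 2 S ∧ KD 3 S)
    (hM : ∀ (S : Type u) [Group S], Spor.IsoM S → KD 2 S ∧ KD 3 S)
    (h : IsSporadicGroup S) {p : ℕ} (hp : p.Prime) (hd : p ∣ Nat.card S) : Row p S := by
  rcases h with h | h | h | h | h | h | h | h | h | h | h | h | h | h | h | h | h | h | h | h | h | h | h | h | h | h
  · exact Or.inr (tame_m11 hna h hp)
  · exact row_m12 hna hS h hp hd
  · exact row_m22 hna hS h hp hd
  · exact Or.inr (tame_m23 hna h hp)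
  · exact Or.inr (tame_m24 hna h hp)
  · exact Or.inr (tame_j1 hna h hp)
  · exact row_j2 hna hS h hp hd
  · exact row_j3 hna hS h hp hd
  · exact row_j4 hna hS h hp hd
  · exact row_co1 hna hS h hp hd
  · exact row_co2 hna hS h hp hd
  · exact Or.inr (tame_co3 hna h hp)
  · exact row_mcl hna hS h hp hd
  · exact row_hs hna hS h hp hd
  · exact row_suz hna hS h hp hd
  · exact Or.inr (tame_he hna h hp)
  · exact row_ru hna hS h hp hd
  · exact Or.inr (tame_on hna h hp)
  · exact Or.inr (tame_ly hna h hp)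
  · exact row_fi22 hna hS h hp hd
  · exact row_fi23 hna hS h hp hd
  · exact row_fi24 hna hS h hp hd
  · exact row_hn hna hS h hp hd
  · exact row_th hna hS h hp hd
  · obtain ⟨e⟩ := id h
    exact row3 hna hS (out_one e S2084.result) (hB S h).1 (hB S h).2 (fun p hp h5 => tame_b hna hp h5 h) hp hd
  · obtain ⟨e⟩ := id h
    exact row3 hna hS (out_one e S2085.result) (hM S h).1 (hM S h).2 (fun p hp h5 => tame_m hna hp h5 h) hp hd

end Cfsg.Agent.H619.BD
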