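import Cfsg.Agent.H619.BD.Row
import Cfsg.Agent.H58.BD.BM

/-!
# S4932, S4953: all sporadic groups (helper619)
-/

set_option autoImplicit false

open Cfsg

namespace Cfsg.Agent.H619.BD

open Cfsg.Agent.H589.BD

universe u

/-- **The rows of the sporadic groups.** -/
theorem row_sporadic {S : Type u} [Group S] [Finite S] [IsSimpleGroup S] (hna : ¬ IsMulCommutative S) (hS : SizeOK S)
    (h : IsSporadicGroup S) {p : ℕ} (hp : p.Prime) (hd : p ∣ Nat.card S) : Row p S :=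
  row_sporadic_of hna hS (fun _ _ h => ⟨Cfsg.Agent.H58.BD.BM.b_two h, Cfsg.Agent.H58.BD.BM.b_three h⟩)
    (fun _ _ h => ⟨Cfsg.Agent.H58.BD.BM.m_two h, Cfsg.Agent.H58.BD.BM.m_three h⟩) h hp hd

end Cfsg.Agent.H619.BD
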