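import Cfsg.Agent.H51.BD.OddRow
import Cfsg.Agent.H816.IMM
import Cfsg.Agent.H995.IMBRow
import Cfsg.Agent.S2034
import Cfsg.Agent.S2035
import Cfsg.Agent.S2036
import Cfsg.Agent.S2037
import Cfsg.Agent.S2038
import Cfsg.Agent.S2039
import Cfsg.Agent.S2040
import Cfsg.Agent.S2041
import Cfsg.Agent.S2042
import Cfsg.Agent.S2043
import Cfsg.Agent.S2044
import Cfsg.Agent.S2045
import Cfsg.Agent.S2046
import Cfsg.Agent.S2047
import Cfsg.Agent.S2048
import Cfsg.Agent.S2053
import Cfsg.Agent.S2054
import Cfsg.Agent.S2055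
import Cfsg.Agent.S2058
import Cfsg.Agent.S2059
import Cfsg.Agent.S2060
import Cfsg.Agent.S2061
import Cfsg.Agent.S2062
import Cfsg.Agent.S2063
import Cfsg.Agent.S2064
import Cfsg.Agent.S2065
import Cfsg.Agent.S2066
import Cfsg.Agent.S2067
import Cfsg.Agent.S2068
import Cfsg.Agent.S2069
import Cfsg.Agent.S2070
import Cfsg.Agent.S2071
import Cfsg.Agent.S2072
import Cfsg.Agent.S2073
import Cfsg.Agent.S2074
import Cfsg.Agent.S2079
import Cfsg.Agent.S2080
import Cfsg.Agent.S2081
import Cfsg.Agent.S2084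
import Cfsg.Agent.S2085

/-!
# `Tame` for the sporadic groups (S4932, helper619)

* `M11`, `M23`, `M24`, `J1`, `Co3` : all primes;
* `M12`, `M22`, `J2`, `J3`, `J4`, `HS`, `McL`, `Suz`, `Co1`, `Co2`, `Fi22` : odd primes;
* `Fi23`, `Fi24'`, `B`, `M` : primes `≥ 5`.
-/

set_option autoImplicit false

namespace Cfsg.Agent.H619.BD

open Cfsg Cfsg.Agent.H589.BD Cfsg.Agent.H585.BD Cfsg.Agent.H51.BD

universe u v

/-- All primes. -/
theorem tame_all {S : Type u} [Group S] (hZ : Subgroup.center S = ⊥) {T : Type v} [Group T] (e : S ≃* T) {c n : ℕ}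
    (hc : Nat.card T = c) (hn : n ≠ 0) (hm : HasCyclicSchurMultiplier T n) (ho : Nat.card (Out T) = 1)
    (hN : noTwelve (c * n) = true) (h2 : ¬ 2 ^ 12 ∣ c * n) {p : ℕ} (hp : p.Prime) : Tame p S := by
  rcases eq_or_ne p 2 with rfl | hp2
  · have : Fact (Nat.Prime 2) := ⟨hp⟩
    have : Finite T := Nat.finite_of_card_ne_zero (by
      rintro h0
      rw [← hc, h0, zero_mul] at hN
      exact absurd hN (by decide))
    have : Finite S := Finite.of_equiv T e.symm.toEquiv
    refine tame_of_cyclic hZ hn (H487.HasSchurMultiplier.congr_left hm e.symm) ?_ ?_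
    · rw [Nat.card_congr e.toEquiv, hc]
      exact h2
    · unfold OutPrime
      rw [card_out_congr e, ho]
      norm_num
  · exact tame_of_table hZ e hc hn hm (by rw [ho]; norm_num) hN hp hp2

/-- The primes `≥ 5`. -/
theorem tame_five {S : Type u} [Group S] (hZ : Subgroup.center S = ⊥) {T : Type v} [Group T] [Finite T] (e : S ≃* T)
    {n : ℕ} (hn : n ≠ 0) (hm : HasCyclicSchurMultiplier T n) (ho : Nat.card (Out T) ∣ 2) {p : ℕ} (hp : p.Prime)
    (h5 : 5 ≤ p) (hN : ¬ p ^ 12 ∣ Nat.card T * n) : Tame p S := by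
  have : Fact p.Prime := ⟨hp⟩
  have : Finite S := Finite.of_equiv T e.symm.toEquiv
  refine tame_of_cyclic hZ hn (H487.HasSchurMultiplier.congr_left hm e.symm) ?_ ?_
  · rw [Nat.card_congr e.toEquiv]
    exact hN
  · intro h
    rw [card_out_congr e] at h
    have := (Nat.prime_dvd_prime_iff_eq hp Nat.prime_two).1 (h.trans ho)
    omega

theorem no12_fi24 {p : ℕ} (hp : p.Prime) (h5 : 5 ≤ p) : ¬ p ^ 12 ∣ 1255205709190661721292800 * 3 := by
  intro h
  have h2 : p ^ 12 ≤ 1255205709190661721292800 * 3 := Nat.le_of_dvd (by norm_num) h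
  have h3 : p < 113 := by
    by_contra hcon
    have h4 : 113 ^ 12 ≤ p ^ 12 := Nat.pow_le_pow_left (by omega) 12
    have h5 := h4.trans h2
    norm_num at h5
  clear h2
  interval_cases p <;> first | (revert h; decide +kernel) | (exfalso; revert hp; norm_num)

variable {S : Type u} [Group S] [IsSimpleGroup S] (hna : ¬ IsMulCommutative S)

include hna

theorem tame_m11 (h : Spor.IsoM11 S) {p : ℕ} (hp : p.Prime) : Tame p S := by
  obtain ⟨e⟩ := h
  exact tame_all (center_simple hna) e (NotCT.Orders.m11 ⟨MulEquiv.refl _⟩) one_ne_zero S2034.result S2060.result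
    (by decide +kernel) (by norm_num) hp

theorem tame_m23 (h : Spor.IsoM23 S) {p : ℕ} (hp : p.Prime) : Tame p S := by
  obtain ⟨e⟩ := h
  exact tame_all (center_simple hna) e (NotCT.Orders.m23 ⟨MulEquiv.refl _⟩) one_ne_zero S2037.result S2063.result
    (by decide +kernel) (by norm_num) hp

theorem tame_m24 (h : Spor.IsoM24 S) {p : ℕ} (hp : p.Prime) : Tame p S := by
  obtain ⟨e⟩ := h
  exact tame_all (center_simple hna) e (NotCT.Orders.m24 ⟨MulEquiv.refl _⟩) one_ne_zero S2038.result S2064.result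
    (by decide +kernel) (by norm_num) hp

theorem tame_j1 (h : Spor.IsoJ1 S) {p : ℕ} (hp : p.Prime) : Tame p S := by
  obtain ⟨e⟩ := h
  exact tame_all (center_simple hna) e (NotCT.Orders.j1 ⟨MulEquiv.refl _⟩) one_ne_zero S2039.result S2065.result
    (by decide +kernel) (by norm_num) hp

theorem tame_co3 (h : Spor.IsoCo3 S) {p : ℕ} (hp : p.Prime) : Tame p S := by
  obtain ⟨e⟩ := h
  exact tame_all (center_simple hna) e (NotCT.Orders.co3 ⟨MulEquiv.refl _⟩) one_ne_zero S2045.result S2071.result
    (by decide +kernel) (by norm_num) hp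

section odd

variable {p : ℕ} (hp : p.Prime) (h2 : p ≠ 2)

include hp h2

theorem tame_m12 (h : Spor.IsoM12 S) : Tame p S := by
  obtain ⟨e⟩ := h
  exact tame_of_table (center_simple hna) e (NotCT.Orders.m12 ⟨MulEquiv.refl _⟩) (by norm_num) S2035.result
    (by rw [S2061.result]) (by decide +kernel) hp h2

theorem tame_m22 (h : Spor.IsoM22 S) : Tame p S := by
  obtain ⟨e⟩ := h
  exact tame_of_table (center_simple hna) e (NotCT.Orders.m22 ⟨MulEquiv.refl _⟩) (by norm_num) S2036.result
    (by rw [S2062.result]) (by decide +kernel) hp h2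

theorem tame_j2 (h : Spor.IsoJ2 S) : Tame p S := by
  obtain ⟨e⟩ := h
  exact tame_of_table (center_simple hna) e (NotCT.Orders.j2 ⟨MulEquiv.refl _⟩) (by norm_num) S2040.result
    (by rw [S2066.result]) (by decide +kernel) hp h2

theorem tame_j3 (h : Spor.IsoJ3 S) : Tame p S := by
  obtain ⟨F, _, _, ω, hF, hω, ⟨e⟩⟩ := h
  exact tame_of_table (center_simple hna) e (NotCT.Orders.j3 ⟨F, _, _, ω, hF, hω, ⟨MulEquiv.refl _⟩⟩) (by norm_num)
    (S2041.result hF ω hω) (by rw [S2067.result hF ω hω]) (by decide +kernel) hp h2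

theorem tame_j4 (h : Spor.IsoJ4 S) : Tame p S := by
  obtain ⟨e⟩ := h
  exact tame_of_table (center_simple hna) e (NotCT.Orders.j4 ⟨MulEquiv.refl _⟩) one_ne_zero S2042.result
    (by rw [S2068.result]; norm_num) (by decide +kernel) hp h2

theorem tame_co1 (h : Spor.IsoCo1 S) : Tame p S := by
  obtain ⟨e⟩ := h
  exact tame_of_table (center_simple hna) e (NotCT.Orders.co1 ⟨MulEquiv.refl _⟩) (by norm_num) S2043.result
    (by rw [S2069.result]; norm_num) (by decide +kernel) hp h2

theorem tame_co2 (h : Spor.IsoCo2 S) : Tame p S := by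
  obtain ⟨e⟩ := h
  exact tame_of_table (center_simple hna) e (NotCT.Orders.co2 ⟨MulEquiv.refl _⟩) one_ne_zero S2044.result
    (by rw [S2070.result]; norm_num) (by decide +kernel) hp h2

theorem tame_hs (h : Spor.IsoHS S) : Tame p S := by
  obtain ⟨e⟩ := h
  exact tame_of_table (center_simple hna) e (NotCT.Orders.hs ⟨MulEquiv.refl _⟩) (by norm_num) S2046.result
    (by rw [S2072.result]) (by decide +kernel) hp h2

theorem tame_mcl (h : Spor.IsoMcL S) : Tame p S := by
  obtain ⟨e⟩ := h
  exact tame_of_table (center_simple hna) e (NotCT.Orders.mcl ⟨MulEquiv.refl _⟩) (by norm_num) S2047.result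
    (by rw [S2073.result]) (by decide +kernel) hp h2

theorem tame_suz (h : Spor.IsoSuz S) : Tame p S := by
  obtain ⟨e⟩ := h
  exact tame_of_table (center_simple hna) e (NotCT.Orders.suz ⟨MulEquiv.refl _⟩) (by norm_num) S2048.result
    (by rw [S2074.result]) (by decide +kernel) hp h2

theorem tame_fi22 (h : Spor.IsoFi22 S) : Tame p S := by
  obtain ⟨e⟩ := h
  exact tame_of_table (center_simple hna) e (NotCT.Orders.fi22 ⟨MulEquiv.refl _⟩) (by norm_num) S2053.result
    (by rw [S2079.result]) (by decide +kernel) hp h2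

end odd

section five

variable {p : ℕ} (hp : p.Prime) (h5 : 5 ≤ p)

include hp h5

theorem tame_fi23 (h : Spor.IsoFi23 S) : Tame p S := by
  obtain ⟨e⟩ := h
  have hc : Nat.card Spor.Fi23 = 4089470473293004800 := NotCT.Orders.fi23 ⟨MulEquiv.refl _⟩
  have : Finite Spor.Fi23 := Nat.finite_of_card_ne_zero (by rw [hc]; norm_num)
  refine tame_five (center_simple hna) e one_ne_zero S2054.result (by rw [S2080.result]; norm_num) hp h5 ?_
  rw [hc]
  intro h
  have h2 : p ^ 12 ≤ 4089470473293004800 * 1 := Nat.le_of_dvd (by norm_num) h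
  have h3 : p < 37 := by
    by_contra hcon
    have h4 : 37 ^ 12 ≤ p ^ 12 := Nat.pow_le_pow_left (by omega) 12
    have h6 := h4.trans h2
    norm_num at h6
  clear h2
  interval_cases p <;> first | (revert h; decide +kernel) | (exfalso; revert hp; norm_num)

theorem tame_fi24 (h : Spor.IsoFi24' S) : Tame p S := by
  obtain ⟨e⟩ := h
  have hc : Nat.card Spor.Fi24' = 1255205709190661721292800 := NotCT.Orders.fi24 ⟨MulEquiv.refl _⟩
  have : Finite Spor.Fi24' := Nat.finite_of_card_ne_zero (by rw [hc]; norm_num)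
  refine tame_five (center_simple hna) e (by norm_num) S2055.result (by rw [S2081.result]) hp h5 ?_
  rw [hc]
  exact no12_fi24 hp h5

theorem tame_b (h : Spor.IsoB S) : Tame p S := by
  have hcS := Cfsg.Agent.H995.IMB.card_of h
  obtain ⟨e⟩ := h
  have hc : Nat.card Spor.BabyMonster = 4154781481226426191177580544000000 := by
    rw [← Nat.card_congr e.toEquiv, hcS]
  have : Finite Spor.BabyMonster := Nat.finite_of_card_ne_zero (by rw [hc]; norm_num)
  refine tame_five (center_simple hna) e (by norm_num) S2058.result (by rw [S2084.result]; norm_num) hp h5 ?_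
  rw [hc]
  intro h
  have h1 : p ∣ 4154781481226426191177580544000000 := by
    have h2 : p ∣ 4154781481226426191177580544000000 * 2 := (dvd_pow_self p (by norm_num)).trans h
    rcases hp.dvd_mul.1 h2 with h3 | h3
    · exact h3
    · have := Nat.le_of_dvd (by norm_num) h3
      omega
  have h2 := Cfsg.Agent.H995.IMB.mem_ps hp h1
  unfold Cfsg.Agent.H995.IMB.ps at h2
  simp only [List.mem_cons, List.not_mem_nil, or_false] at h2
  rcases h2 with rfl | rfl | rfl | rfl | rfl | rfl | rfl | rfl | rfl | rfl | rfl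
  · omega
  · omega
  all_goals revert h; decide +kernel

theorem tame_m (h : Spor.IsoM S) : Tame p S := by
  have hcS := Cfsg.Agent.H816.IMM.card_eq h
  obtain ⟨e⟩ := h
  have hc : Nat.card Spor.Monster = 808017424794512875886459904961710757005754368000000000 := by
    rw [← Nat.card_congr e.toEquiv, hcS]
  have : Finite Spor.Monster := Nat.finite_of_card_ne_zero (by rw [hc]; norm_num)
  refine tame_five (center_simple hna) e one_ne_zero S2059.result (by rw [S2085.result]; norm_num) hp h5 ?_
  rw [hc, mul_one]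
  intro h
  have h2 := Cfsg.Agent.H816.IMM.prime_mem hp ((dvd_pow_self p (by norm_num)).trans h)
  simp only [List.mem_cons, List.not_mem_nil, or_false] at h2
  rcases h2 with rfl | rfl | rfl | rfl | rfl | rfl | rfl | rfl | rfl | rfl | rfl | rfl | rfl | rfl | rfl
  · omega
  · omega
  all_goals revert h; decide +kernel

end five

end Cfsg.Agent.H619.BD
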